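import Groth.Agent.Lib.FreeLocus22.Seq
import Groth.Agent.Lib.KSix19.StalkPerfect
import Groth.Agent.Lib.OX.FlatLocFree
import Groth.Agent.Lib.OX.SingleDegree
import Groth.Agent.Lib.OX.PCohTriangle
import Groth.Agent.Lib.OX.AffineLocal
import Groth.Agent.Lib.FibModLocus10.LocFree
import Groth.Agent.Lib.Euler.Coh

/-! # The free locus of the cohomology of a perfect complex -/

set_option autoImplicit false
set_option maxHeartbeats 1000000
set_option backward.isDefEq.respectTransparency false
universe u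

open CategoryTheory CategoryTheory.Limits AlgebraicGeometry HomologicalComplex
open scoped TensorProduct

attribute [local instance] HasDerivedCategory.standard

noncomputable section

namespace GrothLib.FreeLocus22

open GrothLib.OX

section Algebra

variable {R : Type u} [CommRing R]

/-- Finite projective modules. -/
abbrev FPr (M : ModuleCat.{u} R) : Prop := Module.Finite R M ∧ Module.Projective R M

theorem fpr_iso {M N : ModuleCat.{u} R} (e : M ≅ N) (h : FPr M) : FPr N := by
  haveI := h.1; haveI := h.2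
  exact ⟨Module.Finite.equiv e.toLinearEquiv, Module.Projective.of_equiv e.toLinearEquiv⟩

theorem fpr_zero {M : ModuleCat.{u} R} (h : IsZero M) : FPr M := by
  haveI := ModuleCat.subsingleton_of_isZero h
  exact ⟨inferInstance, Module.Projective.of_split (0 : M →ₗ[R] R) (0 : R →ₗ[R] M) (Subsingleton.elim _ _)⟩

theorem exists_split {X Y : ModuleCat.{u} R} (f : X ⟶ Y) [Epi f] (hY : Module.Projective R Y) :
    Nonempty ((((kernel f : ModuleCat.{u} R) : Type u) × (Y : Type u)) ≃ₗ[R] X) := by
  haveI := hY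
  obtain ⟨s, hs⟩ := Module.projective_lifting_property f.hom LinearMap.id ((ModuleCat.epi_iff_surjective f).1 ‹_›)
  have hs' : ∀ y, f.hom (s y) = y := fun y => LinearMap.congr_fun hs y
  let k := (ModuleCat.kernelIsoKer f).toLinearEquiv
  exact ⟨LinearEquiv.trans (LinearEquiv.prodCongr k (LinearEquiv.refl R Y))
    (LinearEquiv.ofBijective ((LinearMap.ker f.hom).subtype.coprod s) (by
      refine ⟨fun a b hab => ?_, fun x => ⟨(⟨x - s (f.hom x), by simp [LinearMap.mem_ker, hs']⟩, f.hom x), by simp⟩⟩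
      simp only [LinearMap.coprod_apply, Submodule.coe_subtype] at hab
      have h2 : a.2 = b.2 := by
        have := congrArg f.hom hab
        simpa [map_add, LinearMap.mem_ker.1 a.1.2, LinearMap.mem_ker.1 b.1.2, hs'] using this
      rw [h2] at hab
      exact Prod.ext (Subtype.ext (add_right_cancel hab)) h2))⟩

theorem fpr_ext {X Y : ModuleCat.{u} R} (f : X ⟶ Y) [Epi f] (hK : FPr (kernel f)) (hY : FPr Y) : FPr X := by
  haveI := hK.1; haveI := hK.2; haveI := hY.1; haveI := hY.2
  obtain ⟨e⟩ := exists_split f hY.2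
  exact ⟨Module.Finite.equiv e, Module.Projective.of_equiv e⟩

theorem fpr_ker {X Y : ModuleCat.{u} R} (f : X ⟶ Y) [Epi f] (hX : FPr X) (hY : FPr Y) : FPr (kernel f) := by
  haveI := hX.1; haveI := hX.2
  obtain ⟨e⟩ := exists_split f hY.2
  let p : X →ₗ[R] (kernel f : ModuleCat.{u} R) := (LinearMap.fst R _ _).comp e.symm.toLinearMap
  let i : (kernel f : ModuleCat.{u} R) →ₗ[R] X := e.toLinearMap.comp (LinearMap.inl R _ _)
  have h : p.comp i = LinearMap.id := LinearMap.ext fun k => by simp [p, i]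
  exact ⟨Module.Finite.of_surjective p fun k => ⟨i k, LinearMap.congr_fun h k⟩, Module.Projective.of_split i p h⟩

/-- Free and finite transfers along a bijective change of rings. -/
theorem freeFinite_extendScalars_iff {S : Type u} [CommRing S] (φ : R →+* S) (hφ : Function.Bijective φ)
    (M : ModuleCat.{u} R) :
    (Module.Free S ((ModuleCat.extendScalars φ).obj M) ∧ Module.Finite S ((ModuleCat.extendScalars φ).obj M)) ↔
      (Module.Free R M ∧ Module.Finite R M) := by
  algebraize [φ]
  change (Module.Free S (S ⊗[R] M) ∧ Module.Finite S (S ⊗[R] M)) ↔ _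
  constructor
  · rintro ⟨h1, h2⟩
    let eS : R ≃ₗ[R] S := LinearEquiv.ofBijective (Algebra.linearMap R S) hφ
    haveI : Module.Free R S := Module.Free.of_equiv eS
    haveI : Module.Finite R S := Module.Finite.equiv eS
    haveI : Module.Free R (S ⊗[R] M) := Module.Free.trans (S := S)
    haveI : Module.Finite R (S ⊗[R] M) := Module.Finite.trans S _
    let e : S ⊗[R] M ≃ₗ[R] M :=
      (LinearEquiv.rTensor M eS).symm.trans (TensorProduct.lid R M)
    exact ⟨Module.Free.of_equiv e, Module.Finite.equiv e⟩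
  · rintro ⟨h1, h2⟩
    exact ⟨inferInstance, inferInstance⟩

end Algebra

variable {X : Scheme.{u}}

/-- The stalk at `y` is free and finite. -/
abbrev FF (M : X.Modules) (y : X) : Prop :=
  Module.Free (X.presheaf.stalk y) (M.presheaf.stalk y) ∧ Module.Finite (X.presheaf.stalk y) (M.presheaf.stalk y)

theorem ff_of_iso {M N : X.Modules} (e : M ≅ N) {y : X} (h : FF M y) : FF N y := by
  let η : M.presheaf.stalk y ≃ₗ[X.presheaf.stalk y] N.presheaf.stalk y := ((stalk y).mapIso e).toLinearEquiv
  haveI := h.1; haveI := h.2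
  exact ⟨Module.Free.of_equiv η, Module.Finite.equiv η⟩

theorem ff_restrict_iff {U : Scheme.{u}} (j : U ⟶ X) [IsOpenImmersion j] (M : X.Modules) (y : U) :
    FF ((Scheme.Modules.restrictFunctor j).obj M) y ↔ FF M (j y) := by
  refine Iff.trans ?_ (freeFinite_extendScalars_iff (j.stalkMap y).hom
    (ConcreteCategory.bijective_of_isIso (j.stalkMap y)) ((stalk (j y)).obj M))
  let e : ((Scheme.Modules.restrictFunctor j).obj M).presheaf.stalk y ≃ₗ[U.presheaf.stalk y]
      (ModuleCat.extendScalars (j.stalkMap y).hom).obj ((stalk (j y)).obj M) :=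
    ((restrictStalkExtIso j y).app M).toLinearEquiv
  constructor
  · rintro ⟨h1, h2⟩; exact ⟨Module.Free.of_equiv e, Module.Finite.equiv e⟩
  · rintro ⟨h1, h2⟩; exact ⟨Module.Free.of_equiv e.symm, Module.Finite.equiv e.symm⟩

theorem ff_of_isFinLocFree {M : X.Modules} (hM : FlatMod.IsFinLocFree M) (y : X) : FF M y := by
  obtain ⟨U, n, e, hy, he⟩ := FinCov.exists_frame_nhd hM y
  let φ := LinearEquiv.ofBijective _ (Ref1.stalk_of_isFrame he y hy)
  exact ⟨Module.Free.of_equiv φ, Module.Finite.equiv φ⟩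

/-- A cokernel of vector bundles with flat stalks is a vector bundle. -/
theorem isFinLocFree_cokernel {M N : X.Modules} (d : M ⟶ N) (hM : FlatMod.IsFinLocFree M)
    (hN : FlatMod.IsFinLocFree N) (h : ∀ y, Module.Flat (X.presheaf.stalk y) ((stalk y).obj (cokernel d))) :
    FlatMod.IsFinLocFree (cokernel d) := by
  refine OX.isFinLocFree_of_local fun y => ?_
  obtain ⟨W, k, hk, hy, hW⟩ := KSix19.exists_isFinLocFree_cokernel d hM hN y (h y)
  exact ⟨W, k, hk, hy, DCoh.isFinLocFree_of_iso (PreservesCokernel.iso (Scheme.Modules.restrictFunctor k) d).symm hW⟩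

/-- All cohomology stalks at `y` are free and finite. -/
def Good (K : DCoh.D X) (y : X) : Prop := ∀ i : ℤ, FF (DCoh.HD K i) y

theorem good_iso {K L : DCoh.D X} (e : K ≅ L) {y : X} (h : Good K y) : Good L y := fun i =>
  ff_of_iso ((DerivedCategory.homologyFunctor X.Modules i).mapIso e) (h i)

theorem good_resD_iff {U : Scheme.{u}} (j : U ⟶ X) [IsOpenImmersion j] (K : DCoh.D X) (y : U) :
    Good ((resD j).obj K) y ↔ Good K (j y) :=
  forall_congr' fun i => ⟨fun h => (ff_restrict_iff j _ y).1 (ff_of_iso (HDResIso j K i) h),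
    fun h => ff_of_iso (HDResIso j K i).symm ((ff_restrict_iff j _ y).2 h)⟩

/-- Near a good point of a strictly perfect complex all cohomology sheaves are vector bundles. -/
theorem exists_open_strict {E : CochainComplex X.Modules ℤ} (hE : DCoh.IsStrictlyPerfect E) {x : X}
    (hx : Good (DerivedCategory.Q.obj E) x) :
    ∃ W : X.Opens, x ∈ W ∧ ∀ i, FlatMod.IsFinLocFree
      ((Scheme.Modules.restrictFunctor W.ι).obj (DCoh.HD (DerivedCategory.Q.obj E) i)) := by
  obtain ⟨⟨a, b, hab⟩, hfl⟩ := hE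
  let eH : ∀ i, DCoh.HD (DerivedCategory.Q.obj E) i ≅ E.homology i :=
    fun i => (DerivedCategory.homologyFunctorFactors X.Modules i).app E
  -- the cokernels are free at `x`
  have hC : ∀ i, FF (coq E i) x := fun i => by
    let Ex := ((stalk x).mapHomologicalComplex (ComplexShape.up ℤ)).obj E
    have hfp : FPr (coq Ex i) := by
      refine coq_mem Ex FPr (fun e h => fpr_iso e h) (fun h => fpr_zero h) (fun f _ h h' => fpr_ker f h h')
        (fun f _ h h' => fpr_ext f h h') (b := b)
        (fun j hj => (stalk x).map_isZero (hab j (Or.inr hj))) (fun j => ?_) (fun j => ?_) i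
      · haveI := (ff_of_isFinLocFree (hfl j) x).1
        haveI := (ff_of_isFinLocFree (hfl j) x).2
        exact ⟨inferInstanceAs (Module.Finite _ ((E.X j).presheaf.stalk x)),
          inferInstanceAs (Module.Projective _ ((E.X j).presheaf.stalk x))⟩
      · obtain ⟨h1, h2⟩ := hx j
        refine fpr_iso ((stalk x).mapIso (eH j) ≪≫ ((E.sc j).mapHomologyIso (stalk x)).symm) ?_
        exact ⟨h2, inferInstanceAs (Module.Projective _ ((DCoh.HD (DerivedCategory.Q.obj E) j).presheaf.stalk x))⟩
    obtain ⟨h1, h2⟩ := fpr_iso (PreservesCokernel.iso (stalk x) (E.d (i - 1) i)).symm hfp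
    haveI h1' : Module.Finite (X.presheaf.stalk x) ((coq E i).presheaf.stalk x) := h1
    haveI h2' : Module.Projective (X.presheaf.stalk x) ((coq E i).presheaf.stalk x) := h2
    exact ⟨Module.free_of_flat_of_isLocalRing, h1'⟩
  -- they are free nearby
  have hnear : ∀ i, ∃ W : X.Opens, x ∈ W ∧ ∀ y ∈ W, FF (coq E i) y := fun i => by
    haveI := (hC i).1
    obtain ⟨W, k, hk, ⟨z, hz⟩, hW⟩ := KSix19.exists_isFinLocFree_cokernel (E.d (i - 1) i) (hfl _) (hfl _) x
      (inferInstanceAs (Module.Flat _ ((coq E i).presheaf.stalk x)))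
    refine ⟨k.opensRange, ⟨z, hz⟩, ?_⟩
    rintro _ ⟨w, rfl⟩
    exact (ff_restrict_iff k _ w).1
      (ff_of_isFinLocFree (DCoh.isFinLocFree_of_iso (PreservesCokernel.iso (Scheme.Modules.restrictFunctor k) _).symm hW) w)
  choose W hxW hW using hnear
  let V : X.Opens := (Finset.Icc a b).inf W
  refine ⟨V, Finset.inf_induction (p := fun V : X.Opens => x ∈ V) trivial (fun _ h _ h' => ⟨h, h'⟩)
    (fun i _ => hxW i), ?_⟩
  let R := Scheme.Modules.restrictFunctor V.ι
  let EV := (resCx V.ι).obj E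
  have hX : ∀ i, FlatMod.IsFinLocFree (EV.X i) := fun i => isFinLocFree_restrict V.ι (hfl i)
  have hz : ∀ i, IsZero (E.X i) → ∀ y, FF (coq E i) y := fun i hi y => by
    have h0 : IsZero (coq E i) := IsZero.of_epi (cokernel.π _) hi
    haveI : Subsingleton ((coq E i).presheaf.stalk y) :=
      ModuleCat.subsingleton_of_isZero ((stalk y).map_isZero h0)
    exact ⟨inferInstance, inferInstance⟩
  have hCV : ∀ i, FlatMod.IsFinLocFree (coq EV i) := fun i => by
    refine isFinLocFree_cokernel _ (hX _) (hX _) fun y => ?_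
    have h : FF (coq E i) (V.ι y) := by
      by_cases hi : i ∈ Finset.Icc a b
      · exact hW i _ ((show V ≤ W i from Finset.inf_le hi) y.2)
      · exact hz i (hab i (by simp only [Finset.mem_Icc] at hi; omega)) _
    haveI h' : Module.Free ((V : Scheme.{u}).presheaf.stalk y) ((coq EV i).presheaf.stalk y) :=
      (ff_of_iso (PreservesCokernel.iso R (E.d (i - 1) i)) ((ff_restrict_iff V.ι _ y).2 h)).1
    exact (Module.Flat.of_free : Module.Flat ((V : Scheme.{u}).presheaf.stalk y) ((coq EV i).presheaf.stalk y))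
  intro i
  exact DCoh.isFinLocFree_of_iso ((R.mapIso (eH i)) ≪≫ ((E.sc i).mapHomologyIso R).symm).symm
    (homology_mem EV (fun M => FlatMod.IsFinLocFree M) (fun e h => DCoh.isFinLocFree_of_iso e h)
      (fun f _ h h' => OX.isFinLocFree_kernel f h h') hX hCV i)

/-- **The free locus of the cohomology of a perfect object is open.** -/
theorem exists_locus (E : DCoh.D X) (hE : DCoh.IsPerfect E) :
    ∃ U : X.Opens, (U : Set X) = {x : X | Good E x} ∧
      (∀ i : ℤ, FlatMod.IsFinLocFree ((DCoh.HD E i).restrict U.ι)) ∧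
      ∀ W : X.Opens, (∀ i : ℤ, FlatMod.IsFinLocFree ((DCoh.HD E i).restrict W.ι)) → W ≤ U := by
  have key : ∀ x, Good E x → ∃ (V : Scheme.{u}) (k : V ⟶ X) (_ : IsOpenImmersion k), x ∈ Set.range k ∧
      ∀ i, FlatMod.IsFinLocFree ((Scheme.Modules.restrictFunctor k).obj (DCoh.HD E i)) := by
    intro x hx
    obtain ⟨U, j, hj, ⟨y, rfl⟩, P, hP, ⟨e⟩⟩ := isPerfect_iff.1 hE x
    obtain ⟨W, hyW, hW⟩ := exists_open_strict hP (good_iso e.symm ((good_resD_iff j E y).2 hx))
    refine ⟨W, W.ι ≫ j, inferInstance, ⟨⟨y, hyW⟩, rfl⟩, fun i => ?_⟩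
    exact DCoh.isFinLocFree_of_iso ((Scheme.Modules.restrictFunctor W.ι).mapIso
      ((DerivedCategory.homologyFunctor _ i).mapIso e ≪≫ HDResIso j E i) ≪≫
      ((Scheme.Modules.restrictFunctorComp W.ι j).app _).symm) (hW i)
  have hgood : ∀ {V : Scheme.{u}} (k : V ⟶ X) [IsOpenImmersion k],
      (∀ i, FlatMod.IsFinLocFree ((Scheme.Modules.restrictFunctor k).obj (DCoh.HD E i))) →
      ∀ v, Good E (k v) := fun k _ h v i => (ff_restrict_iff k _ v).1 (ff_of_isFinLocFree (h i) v)
  have ho : IsOpen {x : X | Good E x} := isOpen_iff_forall_mem_open.2 fun x hx => by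
    obtain ⟨V, k, hk, hxk, hV⟩ := key x hx
    exact ⟨Set.range k, by rintro _ ⟨v, rfl⟩; exact hgood k hV v, k.isOpenEmbedding.isOpen_range, hxk⟩
  let U : X.Opens := ⟨_, ho⟩
  refine ⟨U, rfl, fun i => OX.isFinLocFree_of_local fun x => ?_, fun W hW x hx => hgood W.ι hW ⟨x, hx⟩⟩
  obtain ⟨V, k, hk, ⟨v, hv⟩, hV⟩ := key (U.ι x) x.2
  have hr : Set.range k ⊆ Set.range U.ι := by
    rw [Scheme.Opens.range_ι]
    rintro _ ⟨w, rfl⟩
    exact hgood k hV w
  let l := IsOpenImmersion.lift U.ι k hr
  have hl : l ≫ U.ι = k := IsOpenImmersion.lift_fac _ _ _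
  haveI : IsOpenImmersion l := by
    haveI : IsOpenImmersion (l ≫ U.ι) := by rw [hl]; exact hk
    exact IsOpenImmersion.of_comp l U.ι
  refine ⟨V, l, inferInstance, ⟨v, U.ι.injective ?_⟩, ?_⟩
  · rw [← Scheme.Hom.comp_apply, hl, hv]
  · exact DCoh.isFinLocFree_of_iso (((Scheme.Modules.restrictFunctorCongr hl.symm) ≪≫
      Scheme.Modules.restrictFunctorComp l U.ι).app (DCoh.HD E i)) (hV i)

end GrothLib.FreeLocus22
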