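import Mathlib.Algebra.Homology.HomologicalComplex
import Mathlib.Algebra.Homology.ShortComplex.HomologicalComplex
import Mathlib.CategoryTheory.Abelian.Exact

/-! # Cocycles, cokernels and homology of a complex -/

set_option autoImplicit false
universe v u

open CategoryTheory CategoryTheory.Limits

noncomputable section

namespace GrothLib.FreeLocus22

variable {A : Type u} [Category.{v} A] [Abelian A] (E : CochainComplex A ℤ)

/-- The cokernel of the differential into degree `i`. -/
abbrev coq (i : ℤ) : A := cokernel (E.d (i - 1) i)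

/-- The surjection from `coq i` onto the boundaries in degree `i + 1`. -/
def toB (i : ℤ) : coq E i ⟶ kernel (cokernel.π (E.d i (i + 1))) :=
  kernel.lift _ (cokernel.desc _ (E.d i (i + 1)) (E.d_comp_d _ _ _))
    (by rw [← cancel_epi (cokernel.π (E.d (i - 1) i)), cokernel.π_desc_assoc, cokernel.condition, comp_zero])

instance (i : ℤ) : Epi (toB E i) := by
  haveI : Epi (kernel.lift (cokernel.π (E.d i (i + 1))) (E.d i (i + 1)) (cokernel.condition _)) :=
    (ShortComplex.exact_of_g_is_cokernel (ShortComplex.mk _ _ (cokernel.condition (E.d i (i + 1))))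
      (cokernelIsCokernel _)).epi_kernelLift
  have h : cokernel.π (E.d (i - 1) i) ≫ toB E i =
      kernel.lift (cokernel.π (E.d i (i + 1))) (E.d i (i + 1)) (cokernel.condition _) := by
    rw [← cancel_mono (kernel.ι (cokernel.π (E.d i (i + 1))))]
    simp [toB]
  haveI : Epi (cokernel.π (E.d (i - 1) i) ≫ toB E i) := by rw [h]; infer_instance
  exact epi_of_epi (cokernel.π (E.d (i - 1) i)) _

/-- The kernel of `toB` is the homology. -/
def kerToBIso (i : ℤ) : kernel (toB E i) ≅ E.homology i :=
  let S := E.sc' (i - 1) i (i + 1)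
  (kernelCompMono (toB E i) (kernel.ι (cokernel.π (E.d i (i + 1))))).symm ≪≫
    kernelIsoOfEq (show toB E i ≫ kernel.ι _ = cokernel.desc S.f S.g S.zero by simp [toB, S]; rfl) ≪≫
    ((ShortComplex.RightHomologyData.ofHasCokernelOfHasKernel S).homologyIso).symm ≪≫
    (ShortComplex.homologyMapIso (E.isoSc' (i - 1) i (i + 1) (by simp) (by simp))).symm

/-- `coq i` at the end of the next sequence. -/
theorem coq_succ (i : ℤ) : Nonempty (coq E (i + 1) ≅ cokernel (E.d i (i + 1))) :=
  ⟨eqToIso (show cokernel (E.d (i + 1 - 1) (i + 1)) = _ by rw [add_sub_cancel_right])⟩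

/-- A class containing zero objects, closed under kernels of epimorphisms and extensions. -/
theorem coq_mem (P : A → Prop) (hiso : ∀ {X Y : A}, (X ≅ Y) → P X → P Y) (hzero : ∀ {X : A}, IsZero X → P X)
    (hker : ∀ {X Y : A} (f : X ⟶ Y) [Epi f], P X → P Y → P (kernel f))
    (hext : ∀ {X Y : A} (f : X ⟶ Y) [Epi f], P (kernel f) → P Y → P X)
    {b : ℤ} (hb : ∀ i, b < i → IsZero (E.X i)) (hX : ∀ i, P (E.X i)) (hH : ∀ i, P (E.homology i)) (i : ℤ) :
    P (coq E i) := by
  have hz : ∀ i, b < i → P (coq E i) := fun i hi => hzero (IsZero.of_epi (cokernel.π (E.d (i - 1) i)) (hb i hi))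
  suffices ∀ (n : ℕ) (i : ℤ), b + 1 ≤ i + n → P (coq E i) from this (b + 1 - i).toNat i (by omega)
  intro n
  induction n with
  | zero => exact fun i hi => hz i (by omega)
  | succ n ih =>
    intro i hi
    obtain ⟨e⟩ := coq_succ E i
    exact hext (toB E i) (hiso (kerToBIso E i).symm (hH i))
      (hker (cokernel.π (E.d i (i + 1))) (hX _) (hiso e (ih (i + 1) (by omega))))

/-- Conversely homology lies in the class. -/
theorem homology_mem (P : A → Prop) (hiso : ∀ {X Y : A}, (X ≅ Y) → P X → P Y)
    (hker : ∀ {X Y : A} (f : X ⟶ Y) [Epi f], P X → P Y → P (kernel f))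
    (hX : ∀ i, P (E.X i)) (hC : ∀ i, P (coq E i)) (i : ℤ) : P (E.homology i) := by
  obtain ⟨e⟩ := coq_succ E i
  exact hiso (kerToBIso E i) (hker (toB E i) (hC i)
    (hker (cokernel.π (E.d i (i + 1))) (hX _) (hiso e (hC (i + 1)))))

end GrothLib.FreeLocus22
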